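import Cfsg.Agent.H74.RIM.Cent
import Cfsg.Agent.H74.RIM.Five
import Cfsg.Agent.H74.RIM.FiveS
import Cfsg.Agent.H620.RIM.Nb
import Cfsg.Agent.SporRec.TwoSp6.CInvol
import Cfsg.Agent.H990.TC.Univ
import Cfsg.Agent.S2093

/-!
# S4816, the row `Sp₆(2)`: `NBall 3`, `NBall 5`, `NBall 7`
-/

set_option autoImplicit false
set_option linter.unusedSectionVars false

namespace Cfsg.Agent.H74.RIM

open Cfsg Subgroup
open Cfsg.Agent.H612.Ore Cfsg.Agent.H620.RIM Cfsg.Agent.H665.RIM
open Cfsg.Agent.SporRec.TwoSp6.Sp (V S om tr act act_one act_mul act_ext act_add act_om act_tr enc enc_xor om_enc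
  fN exists_enc)

universe u

/-! ### ten good classes -/

/-- ten elements -/
def L10 : List S := [1, g3a, g3b, g3c, g5, g7, g9, g15, g10, g12]

/-- the invariant -/
noncomputable def J (g : S) : ℕ × ℕ := (orderOf g, if orderOf g = 3 then fixN g else 0)

theorem J_eq {g h : S} (e : IsConj g h) : J g = J h := by
  have h1 : orderOf g = orderOf h := by
    obtain ⟨c, rfl⟩ := isConj_iff.1 e
    exact (orderOf_injective (MulAut.conj c).toMonoidHom (MulAut.conj c).injective g).symm
  rw [J, J, h1, fixN_eq e]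

theorem map_J : L10.map J = [(1, 0), (3, 16), (3, 1), (3, 4), (5, 0), (7, 0), (9, 0), (15, 0), (10, 0), (12, 0)] := by
  simp only [L10, List.map_cons, List.map_nil, J, orderOf_one, o3a, o3b, o3c, o5, o7, o9, o15, o10, o12, f3a, f3b, f3c]
  rfl

theorem L10_pw : L10.Pairwise fun a b => ¬ IsConj a b := by
  have h : (L10.map J).Nodup := by rw [map_J]; decide
  rw [List.Nodup, List.pairwise_map] at h
  exact h.imp fun h1 h2 => h1 (J_eq h2)

theorem L10_good : ∀ g ∈ L10, MGood 2 g := by
  have key : ∀ (g : S) (n : ℕ), orderOf g = n → n.Coprime 2 → MGood 2 g := fun g n h hn =>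
    mGood_of_coprime (by rw [h]; exact hn)
  intro g hg
  simp only [L10, List.mem_cons, List.not_mem_nil, or_false] at hg
  rcases hg with rfl | rfl | rfl | rfl | rfl | rfl | rfl | rfl | rfl | rfl
  · exact key _ 1 orderOf_one (by norm_num)
  · exact key _ 3 o3a (by norm_num)
  · exact key _ 3 o3b (by norm_num)
  · exact key _ 3 o3c (by norm_num)
  · exact key _ 5 o5 (by norm_num)
  · exact key _ 7 o7 (by norm_num)
  · exact key _ 9 o9 (by norm_num)
  · exact key _ 15 o15 (by norm_num)
  · exact mGood_of_self (by rw [o10]; norm_num) (by rw [cz10, Nat.card_zpowers])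
  · exact mGood_of_self (by rw [o12]; norm_num) (by rw [cz12, Nat.card_zpowers])

theorem isConj_of_map {A B : Type*} [Group A] [Group B] (e : A ≃* B) {a b : A} (h : IsConj (e a) (e b)) :
    IsConj a b := by
  obtain ⟨c, hc⟩ := isConj_iff.1 h
  refine isConj_iff.2 ⟨e.symm c, ?_⟩
  apply e.injective
  rw [map_mul, map_mul, map_inv, e.apply_symm_apply, hc]

theorem exists_F {S' : Type u} [Group S'] (e : S' ≃* S) :
    ∃ F : Finset (ConjClasses S'), F.card = 10 ∧ ∀ C ∈ F, ∃ g : S', ConjClasses.mk g = C ∧ MGood 2 g := by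
  obtain ⟨F, h1, h2⟩ := exists_finset (MGood 2) (L10.map e.symm)
    (by
      rw [List.pairwise_map]
      exact L10_pw.imp fun h1 h2 => h1 (isConj_of_map e.symm h2))
    (by
      intro g hg
      obtain ⟨x, hx, rfl⟩ := List.mem_map.1 hg
      exact (L10_good x hx).mulEquiv e.symm)
  exact ⟨F, by rw [h1, List.length_map]; rfl, h2⟩

theorem nb_three {S' : Type u} [Group S'] (e : S' ≃* S) : NB 3 2 S' := by
  obtain ⟨F, h1, h2⟩ := exists_F e
  refine nb_of_cent (y := e.symm g9) (n := 2) (by norm_num) (by norm_num) ?_ F h2 ?_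
  · rw [MulEquiv.orderOf_eq, o9]; norm_num
  · rw [card_centralizer_congr, card9, h1]; norm_num

theorem nb_seven {S' : Type u} [Group S'] (e : S' ≃* S) : NB 7 2 S' := by
  obtain ⟨F, h1, h2⟩ := exists_F e
  refine nb_of_cent (y := e.symm g7) (n := 1) (by norm_num) (by norm_num) ?_ F h2 ?_
  · rw [MulEquiv.orderOf_eq, o7]; norm_num
  · rw [card_centralizer_congr, card7, h1]; norm_num

/-! ### the cover -/

open Cfsg.Agent.SporRec.TwoSp6.Lift (Ext Rels)
open Cfsg.Agent.SporRec.TwoSp6.CInvol (NS)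

section ext

variable {C : Type*} [Group C] [Finite C] {z : C} {π : C →* S}

/-- a perfect extension is nonsplit -/
theorem ns_of_perfect (E : Ext z π) (hp : commutator C = ⊤) : NS z π := by
  obtain ⟨a, ha, R⟩ := Cfsg.Agent.SporRec.TwoSp6.Main.Ext.exists_rels E (fun L hL => by
    have hi : L.index = 2 := by
      rw [hL.index_eq_card]
      exact Cfsg.Agent.SporRec.TwoSp6.Lift.card_zpowers E.z_ne E.z_sq
    have hn : L.Normal := Subgroup.normal_of_index_eq_two hi
    have hcom : commutator C ≤ L := by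
      rw [commutator_def, Subgroup.commutator_le]
      intro g _ h _
      rw [← QuotientGroup.eq_one_iff]
      have : IsCyclic (C ⧸ L) := by
        have hc : Nat.card (C ⧸ L) = 2 := by rw [← Subgroup.index_eq_card]; exact hi
        have : Fact (Nat.Prime 2) := ⟨Nat.prime_two⟩
        exact isCyclic_of_prime_card hc
      have hm : ((g : C ⧸ L)) * h = h * g := (IsCyclic.isMulCommutative (α := C ⧸ L)).is_comm.comm _ _
      rw [commutatorElement_def, QuotientGroup.mk_mul, QuotientGroup.mk_mul, QuotientGroup.mk_mul,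
        QuotientGroup.mk_inv, QuotientGroup.mk_inv, hm]
      group
    rw [hp, top_le_iff] at hcom
    rw [hcom, Subgroup.index_top] at hi
    exact absurd hi (by norm_num))
  exact NS.of_rels E ha R

/-- lifts of the same element with the same odd exponent are equal -/
theorem lift_eq (E : Ext z π) {a b : C} (h : π a = π b) {k : ℕ} (hk : k % 2 = 1) (ha : a ^ k = 1) (hb : b ^ k = 1) :
    a = b := by
  rcases E.eq_or h with h1 | h1
  · exact h1.symm
  · exfalso
    apply E.z_ne
    have hc : Commute z a := E.z_comm a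
    have h2 : z ^ k = z := by
      rw [← Nat.div_add_mod k 2, hk, pow_add, pow_mul, pow_two, E.z_sq, one_pow, one_mul, pow_one]
    rw [h1, hc.mul_pow, ha, mul_one, h2] at hb
    exact hb

/-- a lift with the same odd exponent -/
theorem exists_lift_pow (E : Ext z π) {g : S} {k : ℕ} (hk : k % 2 = 1) (hg : g ^ k = 1) :
    ∃ a : C, π a = g ∧ a ^ k = 1 := by
  obtain ⟨a, rfl⟩ := E.surj g
  refine ⟨a ^ (k + 1), ?_, ?_⟩
  · rw [map_pow, pow_succ, hg, one_mul]
  · rw [← pow_mul, mul_comm, pow_mul]
    have h1 : a ^ k = 1 ∨ a ^ k = z := E.ker _ (by rw [map_pow, hg])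
    have h2 : (k + 1) = 2 * ((k + 1) / 2) := by omega
    rcases h1 with h1 | h1
    · rw [h1, one_pow]
    · rw [h1, h2, pow_mul, pow_two, E.z_sq, one_pow]

end ext

theorem card_cent_le {E X : Type*} [Group E] [Finite E] [Group X] [Finite X] (π : E →* X) (y : E)
    {a b : ℕ} (ha : Nat.card π.ker ≤ a) (hb : Nat.card (centralizer ({π y} : Set X)) ≤ b) :
    Nat.card (centralizer ({y} : Set E)) ≤ a * b := by
  let f : centralizer ({y} : Set E) →* centralizer ({π y} : Set X) :=
    { toFun := fun c => ⟨π c, mem_centralizer_singleton_iff.2 (by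
        have h := mem_centralizer_singleton_iff.1 c.2
        rw [← map_mul, h, map_mul])⟩
      map_one' := Subtype.ext (map_one π)
      map_mul' := fun a b => Subtype.ext (map_mul π _ _) }
  have h1 : Nat.card f.ker ≤ Nat.card π.ker := by
    let F : f.ker → π.ker := fun c => ⟨c.1.1, congrArg Subtype.val c.2⟩
    refine Nat.card_le_card_of_injective F fun a b hab => Subtype.ext (Subtype.ext ?_)
    exact congrArg (fun z => (z.1 : E)) hab
  have h2 := Subgroup.card_mul_index f.ker
  rw [Subgroup.index_ker] at h2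
  rw [← h2]
  exact Nat.mul_le_mul (h1.trans ha) ((Nat.card_le_card_of_injective _ Subtype.val_injective).trans hb)

theorem nb_five {S' : Type u} [Group S'] (e : S' ≃* S) : NB 5 2 S' := by
  obtain ⟨F, hF1, hF2⟩ := exists_F e
  refine nb_of_quot fun G _ _ Z _ hZ e' hm hp c hc => ?_
  set π : G →* S := (e'.trans e).toMonoidHom.comp (QuotientGroup.mk' Z) with hπ
  have hker : ∀ g : G, π g = 1 ↔ g ∈ Z := by
    intro g
    rw [hπ, MonoidHom.comp_apply, QuotientGroup.mk'_apply]
    show (e'.trans e) (g : G ⧸ Z) = 1 ↔ _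
    rw [map_eq_one_iff _ (e'.trans e).injective, QuotientGroup.eq_one_iff]
  -- the involution
  obtain ⟨z, hz, hz1⟩ : ∃ z ∈ Z, z ≠ 1 := by
    have : Nontrivial Z := by
      rw [← Finite.one_lt_card_iff_nontrivial, hm]
      norm_num
    obtain ⟨x, hx⟩ := exists_ne (1 : Z)
    exact ⟨x, x.2, fun h => hx (Subtype.ext h)⟩
  have hzz : z * z = 1 := by
    have h1 := pow_card_eq_one' (G := Z) (x := ⟨z, hz⟩)
    rw [hm, pow_two] at h1
    exact congrArg Subtype.val h1
  have hZz : ∀ g ∈ Z, g = 1 ∨ g = z := by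
    intro g hg
    obtain ⟨x, y, hxy, huniv⟩ := Nat.card_eq_two_iff.1 hm
    have hall : ∀ w : Z, w = x ∨ w = y := by
      intro w
      have : w ∈ ({x, y} : Set Z) := by rw [huniv]; exact Set.mem_univ _
      simpa using this
    have h1 := hall 1
    have h2 := hall ⟨z, hz⟩
    have h3 := hall ⟨g, hg⟩
    have hne : (⟨z, hz⟩ : Z) ≠ 1 := fun h => hz1 (congrArg Subtype.val h)
    have h4 : (⟨g, hg⟩ : Z) = 1 ∨ (⟨g, hg⟩ : Z) = ⟨z, hz⟩ := by
      rcases h1 with h1 | h1 <;> rcases h2 with h2 | h2 <;> rcases h3 with h3 | h3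
      · exact absurd (h2.trans h1.symm) hne
      · exact absurd (h2.trans h1.symm) hne
      · exact Or.inl (h3.trans h1.symm)
      · exact Or.inr (h3.trans h2.symm)
      · exact Or.inr (h3.trans h2.symm)
      · exact Or.inl (h3.trans h1.symm)
      · exact absurd (h2.trans h1.symm) hne
      · exact absurd (h2.trans h1.symm) hne
    rcases h4 with h4 | h4
    · exact Or.inl (congrArg Subtype.val h4)
    · exact Or.inr (congrArg Subtype.val h4)
  have E : Ext z π :=
    { surj := (e'.trans e).surjective.comp (QuotientGroup.mk'_surjective Z)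
      z_ne := hz1
      z_sq := hzz
      z_comm := fun g => (mem_center_iff.1 (hZ hz) g).symm
      ker := fun g hg => hZz g ((hker g).1 hg)
      map_z := (hker z).2 hz }
  have N : NS z π := ns_of_perfect E hp
  -- the lifts
  have hg5 : g5 ^ 5 = 1 := by
    have h := pow_orderOf_eq_one g5
    rwa [o5] at h
  obtain ⟨y, hy, hy5⟩ := exists_lift_pow E (k := 5) (by norm_num) hg5
  obtain ⟨s, hs, hs3⟩ := exists_lift_pow E (k := 3) (by norm_num) s_pow
  obtain ⟨t, ht⟩ := E.surj (tr (enc 4))
  obtain ⟨l1, h1⟩ := E.surj (tr (enc 1))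
  obtain ⟨l3, h3⟩ := E.surj (tr (enc 3))
  obtain ⟨l8, h8⟩ := E.surj (tr (enc 8))
  have hwt : wt [4] = tr (enc 4) := by rw [wt, List.map_cons, List.map_nil, List.prod_cons, List.prod_nil, mul_one]
  have hwn : wt [1, 3, 8] = tr (enc 1) * tr (enc 3) * tr (enc 8) := by
    rw [wt, List.map_cons, List.map_cons, List.map_cons, List.map_nil, List.prod_cons, List.prod_cons,
      List.prod_cons, List.prod_nil, mul_one, mul_assoc]
  have n0 : ∀ u : ℕ, u < 64 → u ≠ 0 → enc u ≠ 0 := fun u hu h h' => h (enc_inj hu (by norm_num)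
    (h'.trans (by decide +kernel)))
  have an : ∀ u : ℕ, u < 64 → u ≠ 0 → u ≠ 4 → fN u 4 = false → ∀ l : G, π l = tr (enc u) → l * t = z * (t * l) := by
    intro u hu h hne hf l hl
    refine N.anti (enc u) (enc 4) (n0 u hu h) (n0 4 (by norm_num) (by norm_num))
      (fun h' => hne (enc_inj (by norm_num) hu h').symm) ?_ l t hl ht
    rw [om_enc, hf]
    rfl
  have a1 := an 1 (by norm_num) (by norm_num) (by norm_num) (by decide +kernel) l1 h1
  have a3 := an 3 (by norm_num) (by norm_num) (by norm_num) (by decide +kernel) l3 h3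
  have a8 := an 8 (by norm_num) (by norm_num) (by norm_num) (by decide +kernel) l8 h8
  have hy1 : y ≠ 1 := by
    rintro rfl
    rw [map_one] at hy
    have := o5
    rw [← hy, orderOf_one] at this
    exact absurd this (by norm_num)
  have : Fact (Nat.Prime 5) := ⟨by norm_num⟩
  have hcG : Nat.card G = 2903040 := Cfsg.Agent.SporRec.TwoSp6.Main.Ext.card_eq E
  refine dz_five hZ hm c hc hz hz1 (y := y) (t := t) (s := s) (n := l1 * l3 * l8)
    (orderOf_eq_prime hy5 hy1) ?_ ?_ ?_ ?_ ?_ hs3 ?_ ?_ ?_ ?_ ?_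
  · rw [hcG]; norm_num
  · have hfS : Finite S := inferInstance
    have h2 := card_cent_le π y (a := 2) (b := 30) ?_ ?_
    · exact h2
    · have : π.ker = Z := by
        ext g
        rw [MonoidHom.mem_ker]
        exact hker g
      rw [this, hm]
    · rw [hy]; exact card_cent5
  · -- t y = y t
    have h2 : t * y * t⁻¹ = y := lift_eq E (by
      rw [map_mul, map_mul, map_inv, ht, hy, ← hwt, t_comm, mul_inv_cancel_right]) (k := 5) (by norm_num)
      (by rw [conj_pow, hy5, mul_one, mul_inv_cancel]) hy5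
    rw [mul_inv_eq_iff_eq_mul] at h2
    exact h2
  · have h2 : s * y * s⁻¹ = y := lift_eq E (by
      rw [map_mul, map_mul, map_inv, hs, hy, s_comm, mul_inv_cancel_right]) (k := 5) (by norm_num)
      (by rw [conj_pow, hy5, mul_one, mul_inv_cancel]) hy5
    rw [mul_inv_eq_iff_eq_mul] at h2
    exact h2
  · exact N.sq (enc 4) (n0 4 (by norm_num) (by norm_num)) t ht
  · rintro rfl
    rw [map_one] at hs
    exact s_ne hs.symm
  · exact lift_eq E (by rw [map_mul, map_mul, map_inv, map_inv, ht, hs, ← hwt, t_conj]) (k := 3) (by norm_num)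
      (by rw [conj_pow, hs3, mul_one, mul_inv_cancel]) (by rw [inv_pow, hs3, inv_one])
  · refine lift_eq E ?_ (k := 5) (by norm_num) (by rw [conj_pow, hy5, mul_one, mul_inv_cancel])
      (by rw [← pow_mul, mul_comm, pow_mul, hy5, one_pow])
    rw [map_mul, map_mul, map_inv, map_mul, map_mul, map_pow, h1, h3, h8, hy, ← hwn, n_conj]
  · rw [mul_inv_eq_iff_eq_mul]
    have zc := E.z_comm
    calc l1 * l3 * l8 * t = l1 * l3 * (l8 * t) := mul_assoc _ _ _
      _ = l1 * l3 * (z * (t * l8)) := by rw [a8]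
      _ = z * (l1 * (l3 * t) * l8) := by
          rw [← mul_assoc (l1 * l3) z, ← zc (l1 * l3)]
          group
      _ = z * (l1 * (z * (t * l3)) * l8) := by rw [a3]
      _ = z * z * (l1 * t * l3 * l8) := by
          rw [← mul_assoc l1 z, ← zc l1]
          group
      _ = l1 * t * l3 * l8 := by rw [hzz, one_mul]
      _ = z * (t * l1) * l3 * l8 := by rw [a1]
      _ = z * t * (l1 * l3 * l8) := by group
  · obtain ⟨F', hF'c, hF'⟩ := exists_transport e' F hF2
    rw [← hF1, ← hF'c]
    exact card_mGood_ge hZ c F' (by rw [hm]; exact hF')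

/-! ### all kernel orders -/

theorem nball_of_two {S' : Type u} [Group S'] (e : S' ≃* S) {p : ℕ} (h : NB p 2 S') : NBall p S' := by
  intro m hm2 _
  by_cases hm : m = 2
  · rw [hm]; exact h
  · intro E _ _ π hπ hker hperf hcard l hl
    exfalso
    have hP : H51.Mult.PCE (e.toMonoidHom.comp π) :=
      { surj := e.surjective.comp hπ
        cen := by
          intro g hg
          apply hker
          rw [MonoidHom.mem_ker] at hg ⊢
          exact e.injective (hg.trans (map_one e).symm)
        perf := hperf }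
    have h1 := H990.TC.card_ker_dvd H62.SpSix.hasCyclic_S hP
    have h2 : (e.toMonoidHom.comp π).ker = π.ker := by
      ext g
      rw [MonoidHom.mem_ker, MonoidHom.mem_ker]
      exact ⟨fun hg => e.injective (hg.trans (map_one e).symm), fun hg => (congrArg e hg).trans (map_one e)⟩
    rw [h2, hcard, show Nat.card (Multiplicative (ZMod 2)) = 2 from Nat.card_zmod 2] at h1
    have h3 := Nat.le_of_dvd (by norm_num) h1
    omega

/-- **The row `Sp₆(2)`.** -/
theorem nball_sp62 {S' : Type u} [Group S'] (e : S' ≃* Matrix.symplecticGroup (Fin 3) (ZMod 2)) :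
    NBall 3 S' ∧ NBall 5 S' ∧ NBall 7 S' :=
  ⟨nball_of_two e (nb_three e), nball_of_two e (nb_five e), nball_of_two e (nb_seven e)⟩

/-- **The row `PSp₆(2)`**, all odd primes dividing the order. -/
theorem row_psp62 {S' : Type u} [Group S'] {F : Type*} [Field F] [Fintype F] (hF : Fintype.card F = 2)
    (h : Nonempty (S' ≃* Cfsg.PSp 3 F)) {p : ℕ} (hp : p.Prime) (hp2 : p ≠ 2) (hd : p ∣ Nat.card S') :
    NBall p S' := by
  obtain ⟨e⟩ := h
  obtain ⟨e'⟩ := Cfsg.Agent.StandardComponent.SpTwoAut.exists_equiv hF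
  have e2 := e.trans e'
  obtain ⟨h3, h5, h7⟩ := nball_sp62 e2
  have hc : Nat.card S' = 1451520 := by
    rw [Nat.card_congr e2.toEquiv]
    exact Cfsg.Agent.SporRec.TwoSp6.Sp.card_S
  rw [hc] at hd
  have hd2 : p ∣ 2 ^ 9 * 3 ^ 4 * 5 * 7 := by
    norm_num
    exact hd
  rcases (hp.dvd_mul).1 hd2 with h | h
  · rcases (hp.dvd_mul).1 h with h | h
    · rcases (hp.dvd_mul).1 h with h | h
      · exact absurd ((Nat.prime_dvd_prime_iff_eq hp Nat.prime_two).1 (hp.dvd_of_dvd_pow h)) hp2
      · rw [(Nat.prime_dvd_prime_iff_eq hp Nat.prime_three).1 (hp.dvd_of_dvd_pow h)]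
        exact h3
    · rw [(Nat.prime_dvd_prime_iff_eq hp (by norm_num)).1 h]
      exact h5
  · rw [(Nat.prime_dvd_prime_iff_eq hp (by norm_num)).1 h]
    exact h7

end Cfsg.Agent.H74.RIM
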