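import Cfsg.Agent.H74.RIM.O7Row
import Cfsg.Agent.H79.RIM.OOdd
import Cfsg.Agent.H325.RIM.Surv

/-!
# S4816 (RIM): the rows `Ω₇(3)`, `p = 5, 7` (helper74)
-/

set_option autoImplicit false

namespace Cfsg.Agent.H74.RIM.O7Row

open Cfsg Cfsg.Agent.H665.RIM Cfsg.Agent.H325.RIM Cfsg.Agent.H436

universe u

/-- helper79: spin characters -/
theorem nb_two {p : ℕ} (h : p = 5 ∨ p = 7) : NB.{0} p 2 (POmega (ZMod 3) (quadFormOdd 3 (ZMod 3))) := by
  have hc : Fintype.card (ZMod 3) = 3 := by decide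
  have hcard : Nat.card (POmega (ZMod 3) (quadFormOdd 3 (ZMod 3))) = 4585351680 := by
    rw [← Nat.card_congr isoK0.toEquiv, Cfsg.Agent.H235.QS.O7M.card_K0]
  rcases h with rfl | rfl
  · exact Cfsg.Agent.H79.RIM.nb2_oodd le_rfl (by rw [hc]; decide) (by norm_num) (by rw [hc]; norm_num)
      (by rw [hcard]; norm_num) (fun _ => by rw [hc]; norm_num)
  · exact Cfsg.Agent.H79.RIM.nb2_oodd le_rfl (by rw [hc]; decide) (by norm_num) (by rw [hc]; norm_num)
      (by rw [hcard]; norm_num) (fun _ => by rw [hc]; norm_num)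

theorem ek_five_seven {p : ℕ} (h : p = 5 ∨ p = 7) {F : Type*} [Field F] [Fintype F] (hF : Fintype.card F = 3)
    {S : Type u} [Group S] (e : S ≃* POmega F (quadFormOdd 3 F)) : EK.{u} p S := by
  obtain ⟨e1⟩ := equivK0 hF
  exact ek_o73 (by rcases h with h | h <;> omega) hF e (NB.congr (e.trans (e1.trans isoK0)) (nb_two h))

/-- **The rows `Ω₇(3)`, `p = 5, 7`.** -/
theorem row_five : KillRow.{u} 5 (.oodd 3 3) := by
  intro S _ _ hS
  obtain ⟨F, _, _, hF, ⟨e⟩⟩ := hS.real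
  exact Or.inr (ek_five_seven (Or.inl rfl) hF e)

theorem row_seven : KillRow.{u} 7 (.oodd 3 3) := by
  intro S _ _ hS
  obtain ⟨F, _, _, hF, ⟨e⟩⟩ := hS.real
  exact Or.inr (ek_five_seven (Or.inr rfl) hF e)

end Cfsg.Agent.H74.RIM.O7Row
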