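import Cfsg.Agent.H612.Ore.SpCover

/-!
# Elements of `Sp₆(2)` with small centralizers

`cent_pow` : criterion for `C(x) = {x ^ k}`; `g7 g9 g10 g12 g15` have cyclic centralizers generated by
themselves.  `ten` : ten pairwise non-conjugate elements, of odd order or generating their centralizers.
-/

set_option autoImplicit false

namespace Cfsg.Agent.H74.RIM

open Cfsg Cfsg.Agent.H612.Ore
open Cfsg.Agent.SporRec.TwoSp6.Sp (V S om tr act act_one act_mul act_ext act_add act_om act_tr enc enc_xor om_enc
  fN exists_enc)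

/-- xor of the iterates of `e` with the given mask -/
def comb (c e m : ℕ) : ℕ → ℕ
  | 0 => 0
  | k + 1 => bif m.testBit k then comb c e m k ^^^ itc c k e else comb c e m k

/-- certificate: the centralizer of the matrix consists of its powers -/
def cchk (c e n : ℕ) : Bool := Nat.blt e 64 && ((List.range 64).all fun w =>
    !((List.range 6).all fun i => (List.range 6).all fun j =>
      B6 (itc c i w) (itc c j w) == B6 (itc c i e) (itc c j e)) ||
    (List.range n).any fun k => itc c k e == w) &&
  (List.range 6).all fun i => (List.range 64).any fun m => comb c e m 6 == 2 ^ i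

theorem cent_pow {c e n : ℕ} {x : S} (hx : spAct.Rep x c) (h : cchk c e n = true) {g : S}
    (hg : g * x = x * g) : ∃ k, k < n ∧ g = x ^ k := by
  rw [cchk, Bool.and_eq_true, Bool.and_eq_true] at h
  obtain ⟨⟨h0, h1⟩, h2⟩ := h
  have he : e < 2 ^ 6 := by
    rw [Nat.blt_eq] at h0
    exact h0
  have hw : spAct.ap g e < 2 ^ 6 := spAct.lt g e he
  have hgx : ∀ i : ℕ, g * x ^ i = x ^ i * g := fun i => (Commute.pow_right (show Commute g x from hg) i)
  have key : ∀ i : ℕ, spAct.ap g (itc c i e) = itc c i (spAct.ap g e) := by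
    intro i
    rw [← (ap_pow hx i he).1, ← spAct.mul _ _ _ he, hgx i, spAct.mul _ _ _ he, (ap_pow hx i hw).1]
  have hform : ((List.range 6).all fun i => (List.range 6).all fun j =>
      B6 (itc c i (spAct.ap g e)) (itc c j (spAct.ap g e)) == B6 (itc c i e) (itc c j e)) = true := by
    rw [List.all_eq_true]
    intro i _
    rw [List.all_eq_true]
    intro j _
    rw [beq_iff_eq, ← key i, ← key j]
    exact spAct.formB g _ _ (ap_pow hx i he).2 (ap_pow hx j he).2
  have h3 := List.all_eq_true.1 h1 _ (List.mem_range.2 hw)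
  rw [hform, Bool.not_true, Bool.false_or, List.any_eq_true] at h3
  obtain ⟨k, hk, h4⟩ := h3
  rw [beq_iff_eq] at h4
  refine ⟨k, List.mem_range.1 hk, ?_⟩
  have hagree : ∀ i : ℕ, spAct.ap g (itc c i e) = spAct.ap (x ^ k) (itc c i e) := by
    intro i
    have hki : x ^ k * x ^ i = x ^ i * x ^ k := by rw [← pow_add, ← pow_add, add_comm]
    rw [key i, ← h4, ← (ap_pow hx i he).1, ← spAct.mul _ _ _ he, hki, spAct.mul _ _ _ he,
      (ap_pow hx k he).1, (ap_pow hx i (ap_pow hx k he).2).1]
  have hcomb : ∀ m j : ℕ, comb c e m j < 2 ^ 6 ∧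
      spAct.ap g (comb c e m j) = spAct.ap (x ^ k) (comb c e m j) := by
    intro m j
    induction j with
    | zero =>
      exact ⟨by norm_num [comb], by rw [comb, spAct.ap_zero, spAct.ap_zero]⟩
    | succ j ih =>
      rw [comb]
      cases m.testBit j
      · exact ih
      · rw [cond_true]
        have hl := (ap_pow hx j he).2
        refine ⟨Nat.xor_lt_two_pow ih.1 hl, ?_⟩
        rw [spAct.xor g _ _ ih.1 hl, spAct.xor (x ^ k) _ _ ih.1 hl, ih.2, hagree j]
  apply spAct.ext
  intro i hi
  have h5 := List.all_eq_true.1 h2 i (List.mem_range.2 hi)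
  rw [List.any_eq_true] at h5
  obtain ⟨m, _, h6⟩ := h5
  rw [beq_iff_eq] at h6
  rw [← h6]
  exact (hcomb m 6).2

/-- powers -/
theorem pow_ne {c m : ℕ} {x : S} (hx : spAct.Rep x c)
    (h : ((List.range 6).any fun k => !(itc c m (2 ^ k) == 2 ^ k)) = true) : x ^ m ≠ 1 := by
  intro he
  obtain ⟨k, hk, h2⟩ := List.any_eq_true.1 h
  have hk2 := two_pow_lt (n := 6) (List.mem_range.1 hk)
  have h3 := (ap_pow hx m hk2).1
  rw [he, spAct.one _ hk2] at h3
  rw [← h3, beq_self_eq_true, Bool.not_true] at h2
  exact Bool.noConfusion h2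

theorem pow_eq_one {c m : ℕ} {x : S} (hx : spAct.Rep x c)
    (h : ((List.range 6).all fun k => itc c m (2 ^ k) == 2 ^ k) = true) : x ^ m = 1 := by
  apply spAct.ext
  intro k hk
  have hk2 := two_pow_lt (n := 6) hk
  rw [(ap_pow hx m hk2).1, spAct.one _ hk2]
  exact eq_of_beq (List.all_eq_true.1 h k (List.mem_range.2 hk))

/-- certificate for the order -/
def ochk (c n : ℕ) : Bool := ((List.range 6).all fun k => itc c n (2 ^ k) == 2 ^ k) &&
  (List.range n).all fun d => (d == 0) || !(n % d == 0) || (List.range 6).any fun k => !(itc c d (2 ^ k) == 2 ^ k)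

theorem order_of {c n : ℕ} {x : S} (hx : spAct.Rep x c) (hn : 0 < n) (h : ochk c n = true) : orderOf x = n := by
  rw [ochk, Bool.and_eq_true] at h
  have h1 := orderOf_dvd_of_pow_eq_one (pow_eq_one hx h.1)
  by_contra hne
  have hlt : orderOf x < n := lt_of_le_of_ne (Nat.le_of_dvd hn h1) hne
  have h0 : orderOf x ≠ 0 := fun h0 => by
    rw [h0, zero_dvd_iff] at h1
    omega
  have h2 := List.all_eq_true.1 h.2 _ (List.mem_range.2 hlt)
  rw [Nat.mod_eq_zero_of_dvd h1, beq_self_eq_true, Bool.not_true, Bool.or_false,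
    show (orderOf x == 0) = false from by rw [beq_eq_false_iff_ne]; exact h0, Bool.false_or] at h2
  exact pow_ne hx h2 (pow_orderOf_eq_one x)

/-- number of fixed vectors -/
def fixN (g : S) : ℕ := ((Finset.range 64).filter fun v => spAct.ap g v = v).card

theorem fixN_rep {c : ℕ} {x : S} (hx : spAct.Rep x c) :
    fixN x = ((Finset.range 64).filter fun v => apc 6 c v = v).card := by
  rw [fixN]
  congr 1
  apply Finset.filter_congr
  intro v hv
  rw [spAct.ap_eq hx (Finset.mem_range.1 hv)]

theorem fixN_conj_le (g h : S) : fixN g ≤ fixN (h * g * h⁻¹) := by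
  apply Finset.card_le_card_of_injOn (fun v => spAct.ap h v)
  · intro v hv
    rw [Finset.mem_coe, Finset.mem_filter, Finset.mem_range] at hv ⊢
    have hl : spAct.ap h v < 2 ^ 6 := spAct.lt h v hv.1
    have hl1 : spAct.ap h⁻¹ (spAct.ap h v) < 2 ^ 6 := spAct.lt _ _ hl
    refine ⟨hl, ?_⟩
    rw [spAct.mul _ _ _ hl, spAct.mul _ _ _ hl1, spAct.inv_ap h hv.1, hv.2]
  · intro u hu v hv huv
    rw [Finset.mem_coe, Finset.mem_filter, Finset.mem_range] at hu hv
    exact spAct.inj h hu.1 hv.1 huv

theorem fixN_eq {g h : S} (e : IsConj g h) : fixN g = fixN h := by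
  obtain ⟨c, hc⟩ := isConj_iff.1 e
  apply le_antisymm
  · rw [← hc]
    exact fixN_conj_le g c
  · obtain ⟨d, hd⟩ := isConj_iff.1 e.symm
    rw [← hd]
    exact fixN_conj_le h d

/-! ### the elements -/

/-- words and codes -/
def w7 : List ℕ := [5, 4, 3, 2, 1, 0]
def w9 : List ℕ := [6, 5, 4, 3, 2, 1, 0]
def w15 : List ℕ := [6, 5, 4, 2, 1, 0]
def w10 : List ℕ := [5, 3, 2, 1, 0]
def w12 : List ℕ := [6, 4, 3, 2, 1, 0]
def w5 : List ℕ := [3, 2, 1, 0]
def w3a : List ℕ := [1, 0]
def w3c : List ℕ := [4, 3, 1, 0]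

def g7 : S := wd tv w7
def g9 : S := wd tv w9
def g15 : S := wd tv w15
def g10 : S := wd tv w10
def g12 : S := wd tv w12
def g5 : S := wd tv w5
def g3a : S := wd tv w3a
def g3c : S := wd tv w3c
def g3b : S := wd tv (w9 ++ (w9 ++ w9))

theorem rep7 : spAct.Rep g7 22062435514 := rep_wd (by decide +kernel)
theorem rep9 : spAct.Rep g9 22330869930 := rep_wd (by decide +kernel)
theorem rep15 : spAct.Rep g15 38705431706 := rep_wd (by decide +kernel)
theorem rep10 : spAct.Rep g10 51657328030 := rep_wd (by decide +kernel)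
theorem rep12 : spAct.Rep g12 22397995438 := rep_wd (by decide +kernel)
theorem rep5 : spAct.Rep g5 55952295326 := rep_wd (by decide +kernel)
theorem rep3a : spAct.Rep g3a 34628452489 := rep_wd (by decide +kernel)
theorem rep3c : spAct.Rep g3c 21743685001 := rep_wd (by decide +kernel)

theorem o7 : orderOf g7 = 7 := order_of rep7 (by norm_num) (by decide +kernel)
theorem o9 : orderOf g9 = 9 := order_of rep9 (by norm_num) (by decide +kernel)
theorem o15 : orderOf g15 = 15 := order_of rep15 (by norm_num) (by decide +kernel)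
theorem o10 : orderOf g10 = 10 := order_of rep10 (by norm_num) (by decide +kernel)
theorem o12 : orderOf g12 = 12 := order_of rep12 (by norm_num) (by decide +kernel)
theorem o5 : orderOf g5 = 5 := order_of rep5 (by norm_num) (by decide +kernel)
theorem o3a : orderOf g3a = 3 := order_of rep3a (by norm_num) (by decide +kernel)
theorem o3c : orderOf g3c = 3 := order_of rep3c (by norm_num) (by decide +kernel)

theorem c7 : cchk 22062435514 1 7 = true := by decide +kernel
theorem c9 : cchk 22330869930 1 9 = true := by decide +kernel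
theorem c15 : cchk 38705431706 5 15 = true := by decide +kernel
theorem c10 : cchk 51657328030 32 10 = true := by decide +kernel
theorem c12 : cchk 22397995438 1 12 = true := by decide +kernel

theorem cent7 {g : S} (h : g * g7 = g7 * g) : ∃ k, k < 7 ∧ g = g7 ^ k := cent_pow rep7 c7 h
theorem cent9 {g : S} (h : g * g9 = g9 * g) : ∃ k, k < 9 ∧ g = g9 ^ k := cent_pow rep9 c9 h
theorem cent15 {g : S} (h : g * g15 = g15 * g) : ∃ k, k < 15 ∧ g = g15 ^ k := cent_pow rep15 c15 h
theorem cent10 {g : S} (h : g * g10 = g10 * g) : ∃ k, k < 10 ∧ g = g10 ^ k := cent_pow rep10 c10 h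
theorem cent12 {g : S} (h : g * g12 = g12 * g) : ∃ k, k < 12 ∧ g = g12 ^ k := cent_pow rep12 c12 h

theorem centralizer_eq {x : S} {n : ℕ} (h : ∀ g : S, g * x = x * g → ∃ k, k < n ∧ g = x ^ k) :
    Subgroup.centralizer ({x} : Set S) = Subgroup.zpowers x := by
  apply le_antisymm
  · intro g hg
    rw [Subgroup.mem_centralizer_singleton_iff] at hg
    obtain ⟨k, _, rfl⟩ := h g hg
    exact Subgroup.pow_mem _ (Subgroup.mem_zpowers x) k
  · rw [Subgroup.zpowers_le, Subgroup.mem_centralizer_singleton_iff]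

theorem cz7 : Subgroup.centralizer ({g7} : Set S) = Subgroup.zpowers g7 := centralizer_eq fun _ h => cent7 h
theorem cz9 : Subgroup.centralizer ({g9} : Set S) = Subgroup.zpowers g9 := centralizer_eq fun _ h => cent9 h
theorem cz10 : Subgroup.centralizer ({g10} : Set S) = Subgroup.zpowers g10 := centralizer_eq fun _ h => cent10 h
theorem cz12 : Subgroup.centralizer ({g12} : Set S) = Subgroup.zpowers g12 := centralizer_eq fun _ h => cent12 h

theorem card7 : Nat.card (Subgroup.centralizer ({g7} : Set S)) = 7 := by rw [cz7, Nat.card_zpowers, o7]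
theorem card9 : Nat.card (Subgroup.centralizer ({g9} : Set S)) = 9 := by rw [cz9, Nat.card_zpowers, o9]

theorem wd_append (u w : List ℕ) : wd tv (u ++ w) = wd tv u * wd tv w := by
  induction u with
  | nil => exact (one_mul _).symm
  | cons j u ih => rw [List.cons_append, wd, wd, ih, mul_assoc]

theorem g3b_eq : g3b = g9 ^ 3 := by
  rw [g3b, wd_append, wd_append, pow_succ, pow_two, g9, mul_assoc]

theorem o3b : orderOf g3b = 3 := by
  rw [g3b_eq, orderOf_pow' _ (by norm_num), o9]
  decide

theorem rep3b : spAct.Rep g3b 64388675919 := rep_wd (by decide +kernel)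

theorem f3a : fixN g3a = 16 := by rw [fixN_rep rep3a]; decide +kernel
theorem f3b : fixN g3b = 1 := by rw [fixN_rep rep3b]; decide +kernel
theorem f3c : fixN g3c = 4 := by rw [fixN_rep rep3c]; decide +kernel

end Cfsg.Agent.H74.RIM
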