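import Cfsg.Agent.H74.RIM.O7X
import Cfsg.Agent.S2095
import Cfsg.Agent.H395.RIM.EKPsl
import Cfsg.Agent.H325.RIM.EKCongr

/-!
# S4816 (RIM): `EK p Ω₇(3)` for `p = 5, 7, 13` from `NB p 2 Ω₇(3)` (helper74)
-/

set_option autoImplicit false

namespace Cfsg.Agent.H74.RIM.O7Row

open Cfsg Subgroup Cfsg.Agent.H235.QS.O7M Cfsg.Agent.H74.RIM.O7X Cfsg.Agent.H665.RIM

universe u v

/-- the field with three elements -/
noncomputable def fieldEquiv {F : Type*} [Field F] [Fintype F] (hF : Fintype.card F = 3) : F ≃+* ZMod 3 :=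
  (ZMod.ringEquivOfPrime F Nat.prime_three hF).symm

noncomputable def isoK0 : ↥K0 ≃* POmega (ZMod 3) (quadFormOdd 3 (ZMod 3)) :=
  iso.symm.trans Cfsg.Agent.Fischer.Y322Iso.equiv

theorem equivK0 {F : Type v} [Field F] [Fintype F] (hF : Fintype.card F = 3) :
    Nonempty (POmega F (quadFormOdd 3 F) ≃* ↥K0) := by
  obtain ⟨e⟩ := Cfsg.Agent.UGT.U2.Rec.Congr.nonempty_POmegaOdd (fieldEquiv hF) 3
  exact ⟨e.trans isoK0.symm⟩

theorem card_ker (E : Type) [Group E] [Finite E] (π : E →* ↥K0) (h1 : Function.Surjective π)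
    (h2 : π.ker ≤ Subgroup.center E) (h3 : commutator E = ⊤) : Nat.card π.ker ∣ 6 := by
  have hst : IsStemExtension π := ⟨h1, h2, by rw [h3]; exact le_top⟩
  obtain ⟨h4, h5⟩ := Cfsg.Agent.H395.RIM.EKPsl.stem_comp hst isoK0
  have h6 := Cfsg.Agent.H395.RIM.EKPsl.card_dvd (Cfsg.Agent.S2095.result (F := ZMod 3) (by decide)) h4
  rwa [h5] at h6

theorem ek_K0 {p : ℕ} (h : p = 5 ∨ p = 7 ∨ p = 13) (h2 : NB.{0} p 2 ↥K0) : EK.{0} p ↥K0 := by
  have hp : p.Prime := by rcases h with rfl | rfl | rfl <;> norm_num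
  have hp3 : p ≠ 3 := by rcases h with rfl | rfl | rfl <;> norm_num
  refine Cfsg.Agent.H74.RIM.XEK.ek_of_XS hp hp3 h2 card_ker ?_ xs z_ne (order_x h) (z_mem_cl h) ?_
  · rw [card_K0]
    rcases h with rfl | rfl | rfl <;> norm_num
  · intro i hi
    rw [card_K0] at hi
    rcases h with rfl | rfl | rfl
    · have h3 : i ≤ 917070336 := by omega
      calc i * i ≤ 917070336 * 917070336 := Nat.mul_le_mul h3 h3
        _ < 5 ^ 3 ^ 3 := by norm_num
    · have h3 : i ≤ 917070336 := by omega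
      calc i * i ≤ 917070336 * 917070336 := Nat.mul_le_mul h3 h3
        _ < 7 ^ 3 ^ 3 := by norm_num
    · have h3 : i ≤ 917070336 := by omega
      calc i * i ≤ 917070336 * 917070336 := Nat.mul_le_mul h3 h3
        _ < 13 ^ 3 ^ 3 := by norm_num

/-- **`EK p Ω₇(3)`, `p = 5, 7, 13`.** -/
theorem ek_o73 {p : ℕ} (h : p = 5 ∨ p = 7 ∨ p = 13) {F : Type v} [Field F] [Fintype F] (hF : Fintype.card F = 3)
    {S : Type u} [Group S] (e : S ≃* POmega F (quadFormOdd 3 F)) (h2 : NB.{u} p 2 S) : EK.{u} p S := by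
  obtain ⟨e1⟩ := equivK0 hF
  have e2 : S ≃* ↥K0 := e.trans e1
  exact Cfsg.Agent.H325.RIM.EK.congr e2 (ek_K0 h (Cfsg.Agent.H325.RIM.NB.congr e2.symm h2))

end Cfsg.Agent.H74.RIM.O7Row
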