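import Cfsg.Agent.H235.QS.O7M
import Cfsg.Agent.H74.RIM.XEK

/-!
# S4816 (RIM): the extraspecial subgroup `3 ^ (1 + 6)` of `Ω₇(3)` (helper74)

Words in the eight generators of the permutation group `K0 ≅ Ω₇(3)` of degree 378 (helper235).
-/

set_option autoImplicit false
set_option maxRecDepth 100000

namespace Cfsg.Agent.H74.RIM.O7X

open Subgroup Cfsg.Agent.H235.QS.O7M Cfsg.Agent.H74.RIM.XSp

/-- the elements `r_i` -/
def rT : List (List ℕ) :=
  [[1, 7, 6, 4, 3, 2, 3, 4, 6, 7], [3, 7, 6, 2, 1, 0, 1, 2, 6, 7], [6, 4, 3, 2, 1, 0, 1, 2, 3, 4]]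
/-- the elements `s_i` -/
def sT : List (List ℕ) :=
  [[2, 6, 3, 2, 1, 0, 1, 2, 3, 6, 2, 1], [2, 6, 4, 3, 2, 1, 2, 3, 4, 6, 2, 3], [7, 2, 6, 3, 2, 1, 2, 3, 6, 2, 7, 6]]
def rW (i : Fin 3) : List ℕ := rT.getD i []
def sW (i : Fin 3) : List ℕ := sT.getD i []
/-- the central element -/
def zW : List ℕ := rW 0 ++ (sW 0 ++ ((rW 0).reverse ++ (sW 0).reverse))

/-- the element of a word -/
def kw (w : List ℕ) : ↥K0 := ⟨wd w, wd_mem w⟩

theorem kw_append (v w : List ℕ) : kw (v ++ w) = kw v * kw w := Subtype.ext (wd_append v w)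
theorem kw_reverse (w : List ℕ) : kw w.reverse = (kw w)⁻¹ := Subtype.ext (wd_reverse w)
theorem kw_nil : kw [] = 1 := rfl
theorem kw_eq {X Y : List ℕ} (h : chkB X Y = true) : kw X = kw Y := Subtype.ext (eq_of_chkB h)

/-- powers of words -/
def rp (n : ℕ) (w : List ℕ) : List ℕ := (List.replicate n w).flatten

theorem kw_rp (n : ℕ) (w : List ℕ) : kw (rp n w) = kw w ^ n := by
  induction n with
  | zero => rfl
  | succ n ih => rw [rp, List.replicate_succ, List.flatten_cons, kw_append, pow_succ', ← ih]; rfl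

theorem xs : XS (fun i => kw (rW i)) (fun i => kw (sW i)) (kw zW) := by
  refine ⟨fun i => ?_, fun i => ?_, ?_, fun i => ?_, fun i => ?_, fun i j => ?_, fun i j => ?_, fun i j h => ?_,
    fun i => ?_⟩
  · have h : ∀ i, chkB (rp 3 (rW i)) [] = true := by decide +kernel
    rw [← kw_rp, kw_eq (h i), kw_nil]
  · have h : ∀ i, chkB (rp 3 (sW i)) [] = true := by decide +kernel
    rw [← kw_rp, kw_eq (h i), kw_nil]
  · have h : chkB (rp 3 zW) [] = true := by decide +kernel
    rw [← kw_rp, kw_eq h, kw_nil]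
  · have h : ∀ i, chkB (zW ++ rW i) (rW i ++ zW) = true := by decide +kernel
    rw [← kw_append, kw_eq (h i), kw_append]
  · have h : ∀ i, chkB (zW ++ sW i) (sW i ++ zW) = true := by decide +kernel
    rw [← kw_append, kw_eq (h i), kw_append]
  · have h : ∀ i j, chkB (rW i ++ rW j) (rW j ++ rW i) = true := by decide +kernel
    rw [← kw_append, kw_eq (h i j), kw_append]
  · have h : ∀ i j, chkB (sW i ++ sW j) (sW j ++ sW i) = true := by decide +kernel
    rw [← kw_append, kw_eq (h i j), kw_append]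
  · have h' : ∀ i j, i ≠ j → chkB (rW i ++ sW j) (sW j ++ rW i) = true := by decide +kernel
    rw [← kw_append, kw_eq (h' i j h), kw_append]
  · have h : ∀ i, chkB (rW i ++ sW i) (zW ++ (sW i ++ rW i)) = true := by decide +kernel
    rw [← kw_append, kw_eq (h i), kw_append, kw_append]

theorem kw_ne {w : List ℕ} (h : (base.all fun b => Nat.beq (act w b) b) = false) : kw w ≠ 1 := by
  intro h0
  have h1 : wd w = 1 := congrArg Subtype.val h0
  rw [Bool.eq_false_iff] at h
  apply h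
  rw [List.all_eq_true]
  intro b hb
  have hlt : b < 378 := (show ∀ b ∈ base, b < 378 by decide) b hb
  have h2 := act_eq w ⟨b, hlt⟩
  rw [h1] at h2
  have h3 : act w b = b := h2
  rw [h3, Nat.beq_refl]

theorem z_ne : kw zW ≠ 1 := kw_ne (by decide +kernel)

/-- elements of order 5, 7, 13, and conjugating elements -/
def xW (p : ℕ) : List ℕ :=
  if p = 5 then [2, 7, 2, 1, 6, 2] else if p = 7 then [2, 6, 4, 6, 5, 3, 1, 2, 1, 7, 6, 2]
  else [5, 6, 2, 3, 4, 2, 0, 1, 3, 7]
def gW (p : ℕ) : List ℕ :=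
  if p = 5 then [2, 3, 4, 1, 6, 2, 3, 0, 2] else if p = 7 then [2, 6, 2, 7, 0, 5, 4, 6, 2] else [4, 2, 5, 6, 2]

theorem order_x {p : ℕ} (h : p = 5 ∨ p = 7 ∨ p = 13) : orderOf (kw (xW p)) = p := by
  have h1 : ∀ {p : ℕ}, p.Prime → chkB (rp p (xW p)) [] = true →
      (base.all fun b => Nat.beq (act (xW p) b) b) = false → orderOf (kw (xW p)) = p := by
    intro p hp h2 h3
    have : Fact p.Prime := ⟨hp⟩
    exact orderOf_eq_prime (by rw [← kw_rp, kw_eq h2, kw_nil]) (kw_ne h3)
  rcases h with rfl | rfl | rfl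
  · exact h1 (by norm_num) (by decide +kernel) (by decide +kernel)
  · exact h1 (by norm_num) (by decide +kernel) (by decide +kernel)
  · exact h1 (by norm_num) (by decide +kernel) (by decide +kernel)

theorem z_mem_cl {p : ℕ} (h : p = 5 ∨ p = 7 ∨ p = 13) :
    kw zW ∈ closure {kw (xW p), kw (gW p) * kw (xW p) * (kw (gW p))⁻¹} := by
  set x := kw (xW p) with hx
  set y := kw (gW p) * kw (xW p) * (kw (gW p))⁻¹ with hy
  have hx' : x ∈ closure {x, y} := subset_closure (Set.mem_insert _ _)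
  have hy' : y ∈ closure {x, y} := subset_closure (Set.mem_insert_of_mem _ rfl)
  have e1 : y⁻¹ = kw (gW p ++ ((xW p).reverse ++ (gW p).reverse)) := by
    rw [kw_append, kw_append, kw_reverse, kw_reverse, hy]; group
  have e2 : y = kw (gW p ++ (xW p ++ (gW p).reverse)) := by
    rw [kw_append, kw_append, kw_reverse, hy]; group
  rcases h with rfl | rfl | rfl
  · have h1 : chkB zW (rp 3 (xW 5 ++ (gW 5 ++ ((xW 5).reverse ++ (gW 5).reverse)))) = true := by decide +kernel
    rw [kw_eq h1, kw_rp, kw_append, ← e1]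
    exact pow_mem (mul_mem hx' (inv_mem hy')) 3
  · have h1 : chkB zW (rp 3 (xW 7 ++ (gW 7 ++ ((xW 7).reverse ++ (gW 7).reverse)))) = true := by decide +kernel
    rw [kw_eq h1, kw_rp, kw_append, ← e1]
    exact pow_mem (mul_mem hx' (inv_mem hy')) 3
  · have h1 : chkB zW (rp 3 (xW 13 ++ (gW 13 ++ (xW 13 ++ (gW 13).reverse)))) = true := by decide +kernel
    rw [kw_eq h1, kw_rp, kw_append, ← e2]
    exact pow_mem (mul_mem hx' hy') 3

end Cfsg.Agent.H74.RIM.O7X
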